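import Groth.Agent.Lib.GorInv27.Artin
import Groth.Agent.Lib.GorFlat.Artinian
import Groth.Agent.Lib.RegUFD.Basic
import Mathlib.RingTheory.Ideal.MinimalPrime.Noetherian
import Mathlib.LinearAlgebra.Dual.Lemmas
import Mathlib.RingTheory.Artinian.Module
import Mathlib.GroupTheory.CosetCover

/-!
# Pairings on finite Gorenstein algebras
-/

set_option autoImplicit false
set_option linter.style.haveILetI false

universe u

open IsLocalRing

namespace GrothLib.CBGor28

/-- The socle of a two-generated quotient of a two-dimensional regular local ring is cyclic. -/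
theorem socCyclic_quotient_span_pair {R : Type u} [CommRing R] [IsRegularLocalRing R] (hdim : ringKrullDim R = 2)
    [LocCoh.IsGorensteinLocalRing R] {a b : R} (ha : a ∈ maximalIdeal R) (hb : b ∈ maximalIdeal R)
    [IsLocalRing (R ⧸ Ideal.span {a, b})] [IsArtinianRing (R ⧸ Ideal.span {a, b})] :
    GorFlat.SocCyclic (R ⧸ Ideal.span {a, b}) := by
  haveI : IsDomain R := CMFree.isDomain_of_isRegularLocalRing R
  haveI : UniqueFactorizationMonoid R := RegUFD.ufd_of_isRegularLocalRing R
  -- every prime over the ideal is maximal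
  have hprime : ∀ P : Ideal R, P.IsPrime → Ideal.span {a, b} ≤ P → P = maximalIdeal R := by
    intro P hP hle
    haveI := hP
    refine IsLocalRing.eq_maximalIdeal ?_
    haveI : (P.map (Ideal.Quotient.mk (Ideal.span {a, b}))).IsPrime :=
      Ideal.map_isPrime_of_surjective Ideal.Quotient.mk_surjective (by rwa [Ideal.mk_ker])
    haveI := IsArtinianRing.isMaximal_of_isPrime (P.map (Ideal.Quotient.mk (Ideal.span {a, b})))
    have h := Ideal.comap_isMaximal_of_surjective (Ideal.Quotient.mk (Ideal.span {a, b}))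
      Ideal.Quotient.mk_surjective (K := P.map (Ideal.Quotient.mk (Ideal.span {a, b})))
    rwa [Ideal.comap_map_of_surjective _ Ideal.Quotient.mk_surjective, ← RingHom.ker_eq_comap_bot,
      Ideal.mk_ker, sup_eq_left.2 hle] at h
  have key : ∀ x : R, ¬ Ideal.span {a, b} ≤ Ideal.span {x} ∨ IsUnit x := by
    intro x
    by_contra hx
    push Not at hx
    obtain ⟨hle, hu⟩ := hx
    have hne : Ideal.span {x} ≠ ⊤ := fun h => hu (Ideal.span_singleton_eq_top.1 h)
    obtain ⟨P, hP⟩ := Ideal.nonempty_minimalPrimes hne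
    haveI : P.IsPrime := hP.1.1
    have h1 := Ideal.height_le_one_of_isPrincipal_of_mem_minimalPrimes (Ideal.span {x}) P hP
    rw [hprime P hP.1.1 (hle.trans hP.1.2)] at h1
    have h2 : ((maximalIdeal R).height : WithBot ℕ∞) ≤ 1 := by exact_mod_cast h1
    rw [IsLocalRing.maximalIdeal_height_eq_ringKrullDim, hdim] at h2
    exact absurd h2 (by decide)
  have ha0 : a ≠ 0 := by
    rintro rfl
    rcases key b with h | h
    · refine h (Ideal.span_le.2 ?_)
      intro z hz
      rcases hz with rfl | rfl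
      · exact zero_mem _
      · exact Ideal.mem_span_singleton_self _
    · exact (IsLocalRing.mem_maximalIdeal b).1 hb h
  have hrel : IsRelPrime a b := fun x hxa hxb => (key x).resolve_left fun h => h (Ideal.span_le.2 (by
    intro z hz
    rcases hz with rfl | rfl
    · exact Ideal.mem_span_singleton.2 hxa
    · exact Ideal.mem_span_singleton.2 hxb))
  have hrega : IsSMulRegular R a := fun x y h => mul_left_cancel₀ ha0 h
  haveI hloc1 := Gor.isLocalRing_quotient (A := R) ha hrega
  haveI hg1 := Gor.isGorensteinLocalRing_quotient (A := R) ha hrega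
  have hb' : Ideal.Quotient.mk (Ideal.span {a}) b ∈ maximalIdeal (R ⧸ Ideal.span {a}) := by
    rw [IsLocalRing.mem_maximalIdeal]
    intro hu
    exact (IsLocalRing.mem_maximalIdeal b).1 hb
      ((IsLocalHom.of_surjective (Ideal.Quotient.mk (Ideal.span {a})) Ideal.Quotient.mk_surjective).map_nonunit b hu)
  have hregb : IsSMulRegular (R ⧸ Ideal.span {a}) (Ideal.Quotient.mk (Ideal.span {a}) b) := by
    refine (isSMulRegular_iff_right_eq_zero_of_smul).2 fun x hx => ?_
    obtain ⟨x, rfl⟩ := Ideal.Quotient.mk_surjective x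
    rw [smul_eq_mul, ← map_mul, Ideal.Quotient.eq_zero_iff_dvd] at hx
    rw [Ideal.Quotient.eq_zero_iff_dvd]
    exact hrel.dvd_of_dvd_mul_left hx
  haveI hg2 := Gor.isGorensteinLocalRing_quotient (A := R ⧸ Ideal.span {a}) hb' hregb
  have e : ((R ⧸ Ideal.span {a}) ⧸ Ideal.span {Ideal.Quotient.mk (Ideal.span {a}) b}) ≃+* (R ⧸ Ideal.span {a, b}) :=
    (Ideal.quotEquivOfEq (by rw [Ideal.map_span, Set.image_singleton])).trans
      ((DoubleQuot.quotQuotEquivQuotSup (Ideal.span {a}) (Ideal.span {b})).trans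
        (Ideal.quotEquivOfEq (Ideal.span_insert a {b}).symm))
  haveI : LocCoh.IsGorensteinLocalRing (R ⧸ Ideal.span {a, b}) := (GorFlat.gorenstein_congr e).1 hg2
  exact GorFlat.socCyclic_of_gorenstein

/-- Two socle elements at a regular point of dimension two are proportional modulo a two-generated ideal. -/
theorem exists_mul_sub_mem {R S : Type u} [CommRing R] [CommRing S] [Algebra R S] (p : Ideal R) [p.IsMaximal]
    [IsLocalization.AtPrime S p] [IsRegularLocalRing S] [LocCoh.IsGorensteinLocalRing S] (hdim : ringKrullDim S = 2)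
    (I : Ideal R) {a b : S} (hI : I.map (algebraMap R S) = Ideal.span {a, b}) (hIp : I ≤ p) [IsArtinianRing (R ⧸ I)]
    {s t : R} (hs : ∀ x ∈ p, x * s ∈ I) (hs0 : s ∉ I) (ht : ∀ x ∈ p, x * t ∈ I) :
    ∃ c : R, t - c * s ∈ I := by
  let f := algebraMap R S
  have hm : maximalIdeal S = p.map f := (IsLocalization.AtPrime.map_eq_maximalIdeal p S).symm
  have hmem : ∀ x ∈ p, f x ∈ maximalIdeal S := fun x hx => hm ▸ Ideal.mem_map_of_mem f hx
  have hJ : Ideal.span {a, b} = I.map f := hI.symm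
  let J := Ideal.span {a, b}
  have hJm : J ≤ maximalIdeal S := by rw [show J = I.map f from hJ, hm]; exact Ideal.map_mono hIp
  haveI : Nontrivial (S ⧸ J) := Ideal.Quotient.nontrivial_iff.2 fun h =>
    (maximalIdeal.isMaximal S).ne_top (top_unique (h ▸ hJm))
  haveI : IsLocalRing (S ⧸ J) := IsLocalRing.of_surjective' (Ideal.Quotient.mk J) Ideal.Quotient.mk_surjective
  -- invert outside `p`
  have hinv : ∀ u ∉ p, ∃ v, v * u - 1 ∈ p := fun u hu => by
    obtain ⟨v, i, hi, h⟩ := Ideal.IsMaximal.exists_inv (I := p) ‹_› hu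
    exact ⟨v, by rw [show v * u - 1 = -i by linear_combination h]; exact neg_mem hi⟩
  have hback : ∀ x : R, (∀ y ∈ p, y * x ∈ I) → f x ∈ J → x ∈ I := fun x hx hxJ => by
    rw [show J = I.map f from hJ, IsLocalization.algebraMap_mem_map_algebraMap_iff p.primeCompl] at hxJ
    obtain ⟨u, hu, hux⟩ := hxJ
    obtain ⟨v, hv⟩ := hinv u hu
    rw [show x = v * (u * x) - (v * u - 1) * x by ring]
    exact sub_mem (I.mul_mem_left _ hux) (hx _ hv)
  haveI : IsArtinianRing (S ⧸ J) := by
    let g : R ⧸ I →+* S ⧸ J := Ideal.quotientMap J f (by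
      rw [show J = I.map f from hJ]; exact Ideal.le_comap_map)
    refine Function.Surjective.isArtinianRing (f := g) fun y => ?_
    obtain ⟨y, rfl⟩ := Ideal.Quotient.mk_surjective y
    obtain ⟨r, ⟨u, hu⟩, rfl⟩ := IsLocalization.exists_mk'_eq p.primeCompl y
    -- `u` is a unit modulo `I` after localisation: descending chain in `R ⧸ I`
    obtain ⟨n, w, hw⟩ := IsArtinian.exists_pow_succ_smul_dvd (Ideal.Quotient.mk I u) (1 : R ⧸ I)
    obtain ⟨w, rfl⟩ := Ideal.Quotient.mk_surjective w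
    refine ⟨Ideal.Quotient.mk I (r * w), ?_⟩
    show Ideal.Quotient.mk J (f (r * w)) = _
    refine Ideal.Quotient.eq.2 ?_
    have hz : f (u ^ (n + 1) * w - u ^ n) ∈ J := by
      rw [show J = I.map f from hJ]
      refine Ideal.mem_map_of_mem f (Ideal.Quotient.eq_zero_iff_mem.1 ?_)
      simp only [map_sub, map_mul, map_pow]
      simp only [smul_eq_mul, mul_one] at hw
      rw [hw, sub_self]
    have hun : IsUnit (f u) := IsLocalization.map_units S (⟨u, hu⟩ : p.primeCompl)
    have h1 : f r - f u * f (r * w) ∈ J := by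
      rw [← Ideal.unit_mul_mem_iff_mem J (hun.pow n), show f u ^ n * (f r - f u * f (r * w)) =
        -(f r * f (u ^ (n + 1) * w - u ^ n)) by simp only [map_sub, map_mul, map_pow]; ring]
      exact neg_mem (J.mul_mem_left _ hz)
    rw [← Ideal.unit_mul_mem_iff_mem J hun, mul_sub, show f u * IsLocalization.mk' S r (⟨u, hu⟩ : p.primeCompl) = f r from IsLocalization.mk'_spec' S r (⟨u, hu⟩ : p.primeCompl)]
    have := neg_mem h1
    rwa [neg_sub] at this
  obtain ⟨σ, -, hσm, hgen⟩ := socCyclic_quotient_span_pair hdim (a := a) (b := b)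
    (hJm (Ideal.subset_span (by simp))) (hJm (Ideal.subset_span (by simp)))
  have hann : ∀ x : R, (∀ y ∈ p, y * x ∈ I) → ∀ z ∈ maximalIdeal (S ⧸ J), z * Ideal.Quotient.mk J (f x) = 0 := by
    intro x hx z hz
    obtain ⟨z, rfl⟩ := Ideal.Quotient.mk_surjective z
    have hz' : z ∈ maximalIdeal S := fun hu => hz (hu.map _)
    rw [← map_mul, Ideal.Quotient.eq_zero_iff_mem]
    have : maximalIdeal S ≤ J.colon {f x} := by
      rw [hm, Ideal.map_le_iff_le_comap]
      intro y hy
      rw [Ideal.mem_comap, Submodule.mem_colon_singleton, smul_eq_mul, ← map_mul]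
      exact hJ.ge (Ideal.mem_map_of_mem f (hx y hy))
    simpa [Submodule.mem_colon_singleton] using this hz'
  obtain ⟨c₁, hc₁⟩ := hgen _ (hann s hs)
  obtain ⟨c₂, hc₂⟩ := hgen _ (hann t ht)
  have hu₁ : IsUnit c₁ := by
    by_contra hu
    refine hs0 (hback s hs (Ideal.Quotient.eq_zero_iff_mem.1 ?_))
    rw [hc₁]
    exact hσm c₁ hu
  obtain ⟨u₁, rfl⟩ := hu₁
  obtain ⟨c, hc⟩ := Ideal.Quotient.mk_surjective (I := J) ((c₂ : S ⧸ J) * ((u₁⁻¹ : (S ⧸ J)ˣ) : S ⧸ J))
  obtain ⟨r, ⟨u, hu⟩, rfl⟩ := IsLocalization.exists_mk'_eq p.primeCompl c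
  obtain ⟨v, hv⟩ := hinv u hu
  refine ⟨v * r, ?_⟩
  have h1 : f (u * t - r * s) ∈ J := by
    refine Ideal.Quotient.eq_zero_iff_mem.1 ?_
    rw [map_sub, map_mul, map_mul, map_sub, map_mul, map_mul, hc₂, sub_eq_zero,
      ← IsLocalization.mk'_spec S r (⟨u, hu⟩ : p.primeCompl), map_mul, hc, hc₁]
    linear_combination (-(Ideal.Quotient.mk J (f u)) * c₂ * σ) * Units.inv_mul u₁
  have h2 : u * t - r * s ∈ I := hback _ (fun y hy => by
    rw [show y * (u * t - r * s) = u * (y * t) - r * (y * s) by ring]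
    exact sub_mem (I.mul_mem_left _ (ht y hy)) (I.mul_mem_left _ (hs y hy))) h1
  rw [show t - v * r * s = v * (u * t - r * s) - (v * u - 1) * t by ring]
  exact sub_mem (I.mul_mem_left _ h2) (ht _ hv)

/-- The pairing inequality. -/
theorem finrank_add_le {k A : Type u} [Field k] [Infinite k] [CommRing A] [Algebra k A] [FiniteDimensional k A]
    (hsoc : ∀ (p : Ideal A), p.IsMaximal → ∀ s t : A, (∀ x ∈ p, x * s = 0) → s ≠ 0 → (∀ x ∈ p, x * t = 0) →
      ∃ c, t = c * s)
    (V₁ V₂ V₃ : Submodule k A) (hmul : ∀ x ∈ V₁, ∀ y ∈ V₂, x * y ∈ V₃)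
    (hV : ∀ (p : Ideal A), p.IsMaximal → ∀ s ∈ V₃, (∀ x ∈ p, x * s = 0) → s = 0) :
    Module.finrank k V₁ + Module.finrank k V₂ ≤ Module.finrank k A := by
  classical
  haveI : IsArtinianRing A := IsArtinianRing.of_finite k A
  let ι := {p : MaximalSpectrum A // ∃ s : A, s ≠ 0 ∧ ∀ x ∈ p.asIdeal, x * s = 0}
  haveI : Finite ι := inferInstance
  let s : ι → A := fun p => p.2.choose
  have hs : ∀ p : ι, s p ≠ 0 ∧ ∀ x ∈ p.1.asIdeal, x * s p = 0 := fun p => p.2.choose_spec
  let P : ι → Submodule k V₃.dualAnnihilator := fun p =>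
    LinearMap.ker ((Module.Dual.eval k A (s p)).comp V₃.dualAnnihilator.subtype)
  have hP : ∀ p, P p ≠ ⊤ := fun p htop => by
    obtain ⟨g, hg, hg0⟩ := Submodule.exists_dual_map_eq_bot_of_notMem
      (fun h => (hs p).1 (hV _ p.1.isMaximal _ h (hs p).2)) inferInstance
    refine hg ?_
    have hmem : g ∈ V₃.dualAnnihilator := (Submodule.mem_dualAnnihilator g).2 fun x hx =>
      (Submodule.mem_bot k).1 (hg0 ▸ Submodule.mem_map_of_mem hx)
    exact LinearMap.mem_ker.1 (htop.ge (Submodule.mem_top (x := (⟨g, hmem⟩ : V₃.dualAnnihilator))))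
  obtain ⟨l, hl⟩ : ∃ l, ∀ p, l ∉ P p := by
    by_contra hne
    push Not at hne
    obtain ⟨p, hp⟩ := Subspace.exists_eq_top_of_iUnion_eq_univ (p := P)
      (Set.eq_univ_of_forall fun x => Set.mem_iUnion.2 (hne x))
    exact hP p hp
  let B : A →ₗ[k] Module.Dual k A := (LinearMap.mul k A).compr₂ l.1
  have hB : Function.Injective B := by
    refine (injective_iff_map_eq_zero B).2 fun x hx => ?_
    by_contra hx0
    let T : Set (Ideal A) := {q | ∃ y, y ∈ Ideal.span {x} ∧ y ≠ 0 ∧ q = (⊥ : Ideal A).colon {y}}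
    obtain ⟨q, ⟨y, hy, hy0, rfl⟩, hmax⟩ := set_has_maximal_iff_noetherian.2
      (inferInstance : IsNoetherian A A) T ⟨_, x, Ideal.mem_span_singleton_self x, hx0, rfl⟩
    have hcol : ∀ z w : A, z ∈ (⊥ : Ideal A).colon {w} ↔ z * w = 0 := fun z w => by
      rw [Submodule.mem_colon_singleton, Submodule.mem_bot, smul_eq_mul]
    haveI hq : ((⊥ : Ideal A).colon {y}).IsPrime := by
      refine Ideal.isPrime_iff.2 ⟨fun h => hy0 ?_, @fun a b hab => or_iff_not_imp_left.2 fun ha => ?_⟩
      · simpa using (hcol 1 y).1 (h ▸ Submodule.mem_top)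
      · have hay : a * y ≠ 0 := fun h => ha ((hcol a y).2 h)
        by_contra hb
        refine hmax _ ⟨a * y, Ideal.mul_mem_left _ _ hy, hay, rfl⟩ (lt_of_le_of_ne (fun z hz => ?_) fun h => ?_)
        · rw [hcol] at hz ⊢
          rw [show z * (a * y) = a * (z * y) by ring, hz, mul_zero]
        · refine hb (h.ge ((hcol b _).2 ?_))
          rw [← (hcol (a * b) y).1 hab]; ring
    have hmx := IsArtinianRing.isMaximal_of_isPrime ((⊥ : Ideal A).colon {y})
    have hq0 : ∀ z ∈ (⊥ : Ideal A).colon {y}, z * y = 0 := fun z => (hcol z y).1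
    let j : ι := ⟨⟨_, hmx⟩, y, hy0, hq0⟩
    obtain ⟨c, hc⟩ := hsoc _ hmx y (s j) hq0 hy0 (hs j).2
    obtain ⟨e, he⟩ := Ideal.mem_span_singleton'.1 hy
    refine hl j (LinearMap.mem_ker.2 ?_)
    show l.1 (s j) = 0
    rw [hc, ← he, show c * (e * x) = x * (c * e) by ring]
    exact LinearMap.congr_fun hx (c * e)
  have hle : V₂.map B ≤ V₁.dualAnnihilator := by
    rintro _ ⟨y, hy, rfl⟩
    refine (Submodule.mem_dualAnnihilator _).2 fun x hx => ?_
    show l.1 (y * x) = 0
    rw [mul_comm]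
    exact (Submodule.mem_dualAnnihilator l.1).1 l.2 _ (hmul x hx y hy)
  have h1 := Submodule.finrank_mono hle
  rw [(Submodule.equivMapOfInjective B hB V₂).finrank_eq.symm] at h1
  have h2 := Subspace.finrank_add_finrank_dualAnnihilator_eq V₁
  omega

end GrothLib.CBGor28
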