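import Groth.Agent.Lib.CBGor28.Sheaf
import Groth.Agent.Lib.GorFlat.Rings
import Groth.Agent.Lib.ExtHull28.Basic

/-!
# Cayley–Bacharach subschemes and the rank of evaluation
-/

set_option autoImplicit false
set_option maxHeartbeats 1600000
set_option linter.style.haveILetI false
set_option linter.unusedSectionVars false
set_option backward.isDefEq.respectTransparency false

universe u

open CategoryTheory CategoryTheory.Limits AlgebraicGeometry TopologicalSpace Opposite
open GrothLib.Ample (Cocycle res)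
open GrothLib.InvExt (mres IsGen)

noncomputable section

namespace GrothLib.CBGor28

attribute [local instance] algV

variable {X : Scheme.{u}} [IsIntegral X] (c : Cocycle X) (l : c.sect 1 ⊤) (k : Type u) [Field k]
  [X.Over (Spec (CommRingCat.of k))] [IsProper (X ↘ Spec (CommRingCat.of k))]
  (IZ : X.IdealSheafData) (U : X.affineOpens) (hU : U.1 ≤ c.locus l)
  (hsupp : (IZ.support : Set X) ⊆ U.1)

include k hsupp in
/-- The Cayley–Bacharach property forbids socle elements among values of sections. -/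
theorem eq_zero_of_cb {n : ℕ} {L : X.Modules} (e : c.twist n ≅ L)
    (hCB : ∀ I' : X.IdealSheafData, IZ ⋖ I' → ∀ σ : Coh.structureModule X ⟶ L,
      PicF2.zeroScheme L σ ≤ I' → PicF2.zeroScheme L σ ≤ IZ)
    (p : Ideal (Γ(X, U.1) ⧸ IZ.ideal U)) (hp : p.IsMaximal)
    (x : Γ(X, U.1) ⧸ IZ.ideal U) (hx : x ∈ LinearMap.range (evalMap c l k IZ U hU n))
    (hkill : ∀ y ∈ p, y * x = 0) : x = 0 := by
  haveI := Euler.isNoetherian_of_proper (X := X) k
  obtain ⟨ξ, rfl⟩ := hx
  let a : c.sect n ⊤ := ProjCoh.H0top (c.twist n) ξ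
  let r : Γ(X, U.1) := coef c l hU a
  show Ideal.Quotient.mk (IZ.ideal U) r = 0
  have hkill' : ∀ y ∈ p, y * Ideal.Quotient.mk (IZ.ideal U) r = 0 := hkill
  by_contra hr0
  rw [Ideal.Quotient.eq_zero_iff_mem] at hr0
  have hLi : PicF.IsInvertible L := c.isInvertible_of_iso e.symm
  let σ : Coh.structureModule X ⟶ L := c.hom a ≫ e.hom
  let g : Γ(L, U.1) := e.hom.app U.1 (c.sectRes (le_top : U.1 ≤ ⊤) (powSect c l n))
  have hgen : IsGen L U.1 g := by
    refine IsGen.map e.hom ?_ fun W _ => ConcreteCategory.bijective_of_isIso (e.hom.app W)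
    have h := (c.isGen_sectRes_locus (powSect c l n)).restrict (hU.trans (locus_le_powSect c l n))
    rwa [c.mres_twist, c.sectRes_sectRes] at h
  have hval : (show Γ(L, U.1) from PicF2.secVal L σ U.1) = r • g := by
    show e.hom.app U.1 ((c.hom a).app U.1 _) = _
    refine (congrArg (e.hom.app U.1) (c.hom_app_one a U.1)).trans ?_
    rw [← coef_spec c l hU a]
    exact Ample.app_smul e.hom _ _
  have hzU := Jets.zeroScheme_ideal_gen hLi σ U hgen hval
  let I' := IZ ⊔ PicF2.zeroScheme L σ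
  have hI'U : I'.ideal U = IZ.ideal U ⊔ Ideal.span {r} := by
    show (IZ ⊔ PicF2.zeroScheme L σ).ideal U = _
    rw [Scheme.IdealSheafData.ideal_sup, Pi.sup_apply, hzU]
  have hrI' : r ∈ I'.ideal U := hI'U ▸ Submodule.mem_sup_right (Ideal.mem_span_singleton_self r)
  have hlt : IZ < I' := lt_of_le_of_ne le_sup_left fun he => hr0 (by rw [he]; exact hrI')
  refine hr0 ?_
  have hcov : IZ ⋖ I' := by
    refine ⟨hlt, fun K hK1 hK2 => hK2.ne (le_antisymm hK2.le ?_)⟩
    -- cover by the open and the affines away from the support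
    let C := {W : X.affineOpens // W = U ∨ Disjoint (W.1 : Set X) (IZ.support : Set X)}
    refine Scheme.IdealSheafData.le_of_iSup_eq_top (fun W : C => W.1) ?_ ?_
    · refine eq_top_iff.2 fun y _ => ?_
      by_cases hy : y ∈ (IZ.support : Set X)
      · exact Opens.mem_iSup.2 ⟨⟨U, Or.inl rfl⟩, hsupp hy⟩
      · obtain ⟨W, hW, hyW, hWs⟩ := exists_isAffineOpen_mem_and_subset
          (U := ⟨(IZ.support : Set X)ᶜ, IZ.support.isClosed.isOpen_compl⟩) hy
        exact Opens.mem_iSup.2 ⟨⟨⟨W, hW⟩, Or.inr (Set.disjoint_left.2 fun z hz => hWs hz)⟩, hyW⟩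
    · rintro ⟨W, rfl | hd⟩
      · show I'.ideal W ≤ K.ideal W
        have hK : ∃ r' ∈ K.ideal W, r' ∉ IZ.ideal W := by
          by_contra hne
          push Not at hne
          refine hK1.not_ge ?_
          refine Scheme.IdealSheafData.le_of_iSup_eq_top (fun V : {V : X.affineOpens //
            V = W ∨ Disjoint (V.1 : Set X) (IZ.support : Set X)} => V.1) ?_ ?_
          · refine eq_top_iff.2 fun y _ => ?_
            by_cases hy : y ∈ (IZ.support : Set X)
            · exact Opens.mem_iSup.2 ⟨⟨W, Or.inl rfl⟩, hsupp hy⟩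
            · obtain ⟨V, hV, hyV, hVs⟩ := exists_isAffineOpen_mem_and_subset
                (U := ⟨(IZ.support : Set X)ᶜ, IZ.support.isClosed.isOpen_compl⟩) hy
              exact Opens.mem_iSup.2 ⟨⟨⟨V, hV⟩, Or.inr (Set.disjoint_left.2 fun z hz => hVs hz)⟩, hyV⟩
          · rintro ⟨V, rfl | hd⟩
            · exact hne
            · show K.ideal V ≤ IZ.ideal V
              rw [Nagata6.ideal_eq_top_of_disjoint IZ V hd]
              exact le_top
        obtain ⟨r', hr'K, hr'I⟩ := hK
        have hr'' : r' ∈ IZ.ideal W ⊔ Ideal.span {r} := hI'U ▸ hK2.le W hr'K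
        obtain ⟨i, hi, s, hs, hsum⟩ := Submodule.mem_sup.1 hr''
        obtain ⟨b, rfl⟩ := Ideal.mem_span_singleton'.1 hs
        have hb : Ideal.Quotient.mk (IZ.ideal W) b ∉ p := fun hb => hr'I (by
          rw [← hsum]
          refine add_mem hi (Ideal.Quotient.eq_zero_iff_mem.1 ?_)
          rw [map_mul]
          exact hkill' _ hb)
        obtain ⟨v, q, hq, hvq⟩ := Ideal.IsMaximal.exists_inv hp hb
        obtain ⟨v, rfl⟩ := Ideal.Quotient.mk_surjective v
        have hz : (v * b - 1) * r ∈ IZ.ideal W := by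
          refine Ideal.Quotient.eq_zero_iff_mem.1 ?_
          rw [map_mul, map_sub, map_mul, map_one,
            show Ideal.Quotient.mk (IZ.ideal W) v * Ideal.Quotient.mk (IZ.ideal W) b - 1 = -q by
              linear_combination hvq, neg_mul, hkill' q hq, neg_zero]
        have hrK : r ∈ K.ideal W := by
          rw [show r = v * r' - v * i - (v * b - 1) * r by rw [← hsum]; ring]
          exact sub_mem (sub_mem (Ideal.mul_mem_left _ _ hr'K) (Ideal.mul_mem_left _ _ (hK1.le W hi)))
            (hK1.le W hz)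
        rw [hI'U]
        exact sup_le (hK1.le W) ((Ideal.span_singleton_le_iff_mem _).2 hrK)
      · show I'.ideal W ≤ K.ideal W
        exact le_top.trans ((Nagata6.ideal_eq_top_of_disjoint IZ W hd).ge.trans (hK1.le W))
  have h := hCB I' hcov σ le_sup_right U
  rw [hzU] at h
  exact h (Ideal.mem_span_singleton_self r)

variable [IsAlgClosed k] [Smooth (X ↘ Spec (CommRingCat.of k))]

include k hsupp in
/-- Socles of the finite subscheme are cyclic. -/
theorem exists_mul_eq_of_socle (hdim : topologicalKrullDim X = 2) (hfin : (IZ.support : Set X).Finite)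
    (hlci : ∀ x : X, ∃ V : X.affineOpens, x ∈ (V : X.Opens) ∧
      ∃ a b : Γ(X, V), IZ.ideal V = Ideal.span {a, b})
    [IsArtinianRing (Γ(X, U.1) ⧸ IZ.ideal U)]
    (p : Ideal (Γ(X, U.1) ⧸ IZ.ideal U)) (hp : p.IsMaximal) (s t : Γ(X, U.1) ⧸ IZ.ideal U)
    (hs : ∀ x ∈ p, x * s = 0) (hs0 : s ≠ 0) (ht : ∀ x ∈ p, x * t = 0) : ∃ a, t = a * s := by
  haveI := hp
  obtain ⟨s, rfl⟩ := Ideal.Quotient.mk_surjective s
  obtain ⟨t, rfl⟩ := Ideal.Quotient.mk_surjective t
  let P := p.comap (Ideal.Quotient.mk (IZ.ideal U))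
  haveI : P.IsMaximal := Ideal.comap_isMaximal_of_surjective _ Ideal.Quotient.mk_surjective
  have hIP : IZ.ideal U ≤ P := fun i hi => by
    show Ideal.Quotient.mk _ i ∈ p
    rw [Ideal.Quotient.eq_zero_iff_mem.2 hi]
    exact p.zero_mem
  let y : PrimeSpectrum Γ(X, U.1) := ⟨P, Ideal.IsMaximal.isPrime' P⟩
  let z : X := U.2.fromSpec y
  have hzU : z ∈ U.1 := U.2.range_fromSpec.le (Set.mem_range_self y)
  letI := TopCat.Presheaf.algebra_section_stalk X.presheaf (⟨z, hzU⟩ : U.1)
  haveI hloc : IsLocalization.AtPrime (X.presheaf.stalk z) P := U.2.isLocalization_stalk' y hzU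
  haveI := HodgeIndex.regular_of_smooth (X := X) k z
  haveI := GorFlat.gorenstein_of_isRegularLocalRing (X.presheaf.stalk z)
  have hzs : z ∈ (IZ.support : Set X) := by
    rw [SetLike.mem_coe, Scheme.IdealSheafData.mem_support_iff_of_mem (U := U) hzU]
    have hne : (IZ.ideal U).map (algebraMap Γ(X, U.1) (X.presheaf.stalk z)) ≤
        IsLocalRing.maximalIdeal (X.presheaf.stalk z) := by
      rw [← IsLocalization.AtPrime.map_eq_maximalIdeal P (X.presheaf.stalk z)]
      exact Ideal.map_mono hIP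
    rw [Scheme.mem_zeroLocus_iff]
    intro f hf hz
    exact (IsLocalRing.mem_maximalIdeal _).1 (hne (Ideal.mem_map_of_mem _ hf))
      ((Scheme.mem_basicOpen X f z hzU).1 hz)
  have hz2 : ringKrullDim (X.presheaf.stalk z) = 2 :=
    le_antisymm ((Ref1.ringKrullDim_stalk_le_topologicalKrullDim z).trans hdim.le)
      (ExtHull28.two_le_dim_stalk k hdim IZ.support.isClosed hfin hzs)
  obtain ⟨V, hzV, a, b, hab⟩ := hlci z
  have hI : (IZ.ideal U).map (algebraMap Γ(X, U.1) (X.presheaf.stalk z)) =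
      Ideal.span {X.presheaf.germ V.1 z hzV a, X.presheaf.germ V.1 z hzV b} := by
    refine (Goodman.st_eq IZ U hzU).symm.trans ((Goodman.st_eq IZ V hzV).trans ?_)
    rw [hab, Ideal.map_span, Set.image_pair]
  obtain ⟨d, hd⟩ := exists_mul_sub_mem (S := X.presheaf.stalk z) P hz2 (IZ.ideal U) hI hIP (s := s) (t := t)
    (fun x hx => Ideal.Quotient.eq_zero_iff_mem.1 (by rw [map_mul]; exact hs _ hx))
    (fun h => hs0 (Ideal.Quotient.eq_zero_iff_mem.2 h))
    (fun x hx => Ideal.Quotient.eq_zero_iff_mem.1 (by rw [map_mul]; exact ht _ hx))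
  exact ⟨Ideal.Quotient.mk _ d, by rw [← map_mul]; exact Ideal.Quotient.eq.2 hd⟩

end GrothLib.CBGor28
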