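import Groth.Agent.Lib.CBGor28.Algebra
import Groth.Agent.Lib.CBExt28.Main
import Groth.Agent.Lib.Nagata6.ExtendIdeal
import Groth.Agent.Lib.Ample.ProjSections
import Groth.Agent.Lib.CurveMult.GGCurve

/-!
# Sections modulo an ideal with finite support
-/

set_option autoImplicit false
set_option maxHeartbeats 1600000
set_option linter.style.haveILetI false
set_option linter.unusedSectionVars false
set_option backward.isDefEq.respectTransparency false

universe u

open CategoryTheory CategoryTheory.Limits AlgebraicGeometry TopologicalSpace Opposite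
open GrothLib.Ample (Cocycle res)
open GrothLib.InvExt (mres IsGen)
open GrothLib.QCoh (stalkLin)
open GrothLib.Cohom (hhMap)

noncomputable section

namespace GrothLib.CBGor28

variable {X : Scheme.{u}} (c : Cocycle X)

/-- Products of families. -/
def mulSect {m n : ℕ} (a : c.sect m ⊤) (b : c.sect n ⊤) : c.sect (m + n) ⊤ :=
  ⟨fun i => a.1 i * b.1 i, fun i j W hi hj => by
    simp only [map_mul, c.sect_spec a i j hi hj, c.sect_spec b i j hi hj, pow_add]
    ring⟩

/-- Powers of a family. -/
def powSect (l : c.sect 1 ⊤) (m : ℕ) : c.sect m ⊤ :=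
  ⟨fun i => (l.1 i) ^ m, fun i j W hi hj => by
    simp only [map_pow, c.sect_spec l i j hi hj, pow_one, mul_pow]⟩

theorem locus_le_powSect (l : c.sect 1 ⊤) (m : ℕ) : c.locus l ≤ c.locus (powSect c l m) := fun x hx => by
  obtain ⟨i, hi⟩ := Opens.mem_iSup.1 hx
  refine Opens.mem_iSup.2 ⟨i, ?_⟩
  obtain ⟨hxD, hu⟩ : ∃ h : x ∈ (⊤ : X.Opens) ⊓ c.D i, IsUnit (X.presheaf.germ _ x h (l.1 i)) :=
    ⟨X.basicOpen_le _ hi, (Scheme.mem_basicOpen _ _ _ _).1 hi⟩
  refine (Scheme.mem_basicOpen X ((powSect c l m).1 i) x hxD).2 ?_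
  show IsUnit (X.presheaf.germ _ x hxD ((l.1 i) ^ m))
  rw [map_pow]
  exact hu.pow m

variable (l : c.sect 1 ⊤) {V : X.Opens} (hV : V ≤ c.locus l)

include hV in
theorem bijective_hom_pow (m : ℕ) : Function.Bijective ((c.hom (powSect c l m)).val.app (op V)) :=
  c.bijective_hom_app _ (hV.trans (locus_le_powSect c l m))

/-- The coefficient of a family with respect to a power of a generator. -/
def coef {m : ℕ} (a : c.sect m ⊤) : Γ(X, V) :=
  ((bijective_hom_pow c l hV m).2 (c.sectRes le_top a)).choose

theorem coef_spec {m : ℕ} (a : c.sect m ⊤) :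
    coef c l hV a • c.sectRes (le_top : V ≤ ⊤) (powSect c l m) = c.sectRes le_top a :=
  (c.hom_app_apply (powSect c l m) V _).symm.trans
    ((bijective_hom_pow c l hV m).2 (c.sectRes le_top a)).choose_spec

theorem coef_unique {m : ℕ} (a : c.sect m ⊤) {r : Γ(X, V)}
    (h : r • c.sectRes (le_top : V ≤ ⊤) (powSect c l m) = c.sectRes le_top a) : coef c l hV a = r :=
  c.smul_injective_of_le_locus _ (hV.trans (locus_le_powSect c l m)) ((coef_spec c l hV a).trans h.symm)

theorem coef_add {m : ℕ} (a b : c.sect m ⊤) : coef c l hV (a + b) = coef c l hV a + coef c l hV b :=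
  coef_unique c l hV _ (by rw [add_smul, coef_spec, coef_spec, map_add])

theorem coef_smul {m : ℕ} (r : Γ(X, ⊤)) (a : c.sect m ⊤) :
    coef c l hV (r • a) = res le_top r * coef c l hV a :=
  coef_unique c l hV _ (by rw [mul_smul, coef_spec, c.sectRes_smul])

theorem coef_mul {m n : ℕ} (a : c.sect m ⊤) (b : c.sect n ⊤) :
    coef c l hV (mulSect c a b) = coef c l hV a * coef c l hV b := by
  refine coef_unique c l hV _ (c.sect_ext fun i => ?_)
  have ha := congrArg (fun t : c.sect m V => t.1 i) (coef_spec c l hV a)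
  have hb := congrArg (fun t : c.sect n V => t.1 i) (coef_spec c l hV b)
  simp only [Cocycle.smul_apply, Cocycle.sectRes_apply, powSect, mulSect, map_mul, map_pow] at ha hb ⊢
  rw [← ha, ← hb, pow_add]
  ring

variable (k : Type u) [Field k] [X.Over (Spec (CommRingCat.of k))]

/-- The field as a ring of sections over an open. -/
abbrev algV (V : X.Opens) : Algebra k Γ(X, V) :=
  RingHom.toAlgebra ((res (le_top : V ≤ ⊤)).comp
    (show k →+* Γ(X, ⊤) from Coh.toGlobal (X ↘ Spec (CommRingCat.of k))))

attribute [local instance] algV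

theorem algV_smul (V : X.Opens) (a : k) (r : Γ(X, V)) :
    a • r = res (le_top : V ≤ ⊤) (show Γ(X, ⊤) from Coh.toGlobal (X ↘ Spec (CommRingCat.of k)) a) * r := rfl

variable (IZ : X.IdealSheafData) (U : X.affineOpens) (hU : U.1 ≤ c.locus l)
  (hsupp : (IZ.support : Set X) ⊆ U.1)

/-- Evaluation of sections on the finite subscheme. -/
def evalMap (m : ℕ) : Coh.HH X (c.twist m) 0 →ₗ[k] (Γ(X, U.1) ⧸ IZ.ideal U) where
  toFun x := Ideal.Quotient.mk _ (coef c l hU (show c.sect m ⊤ from ProjCoh.H0top (c.twist m) x))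
  map_add' x y := by
    rw [map_add]
    exact (congrArg (Ideal.Quotient.mk _) (coef_add c l hU _ _)).trans (map_add _ _ _)
  map_smul' a x := by
    rw [ProjCoh.H0top_smul]
    refine (congrArg (Ideal.Quotient.mk _) (coef_smul c l hU _ _)).trans ?_
    rw [RingHom.id_apply, map_mul]
    rfl

theorem mem_range_evalMap {m : ℕ} (a : c.sect m ⊤) :
    Ideal.Quotient.mk _ (coef c l hU a) ∈ LinearMap.range (evalMap c l k IZ U hU m) :=
  ⟨(ProjCoh.H0top (c.twist m)).symm a, by
    show Ideal.Quotient.mk _ (coef c l hU _) = _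
    rw [AddEquiv.apply_symm_apply]⟩

theorem mul_mem_range {m n N : ℕ} (hN : m + n = N) {x y : Γ(X, U.1) ⧸ IZ.ideal U}
    (hx : x ∈ LinearMap.range (evalMap c l k IZ U hU m)) (hy : y ∈ LinearMap.range (evalMap c l k IZ U hU n)) :
    x * y ∈ LinearMap.range (evalMap c l k IZ U hU N) := by
  subst hN
  obtain ⟨x, rfl⟩ := hx
  obtain ⟨y, rfl⟩ := hy
  show Ideal.Quotient.mk _ _ * Ideal.Quotient.mk _ _ ∈ _
  rw [← map_mul, ← coef_mul]
  exact mem_range_evalMap c l k IZ U hU _

variable [IsProper (X ↘ Spec (CommRingCat.of k))]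

include hsupp in
/-- Sections over the affine open modulo the ideal are the sections of the finite subscheme. -/
theorem exists_quot_equiv :
    Nonempty ((Γ(X, U.1) ⧸ IZ.ideal U) ≃ₗ[k] Coh.HH X (ClSub.quotMod IZ) 0) := by
  have hpre : IZ.subschemeι ⁻¹ᵁ U.1 = IZ.subschemeι ⁻¹ᵁ (⊤ : X.Opens) := by
    refine Eq.trans (b := ⊤) ?_ (Scheme.Hom.preimage_top _).symm
    refine Opens.ext (Set.eq_univ_of_forall fun y => hsupp ?_)
    rw [← Scheme.IdealSheafData.range_subschemeι]
    exact Set.mem_range_self y
  have hres : Function.Bijective (mres (ClSub.quotMod IZ) (le_top : U.1 ≤ ⊤)) := by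
    have hb : ∀ {W W' : IZ.subscheme.Opens} (h : W' ≤ W), W' = W →
        Function.Bijective (IZ.subscheme.presheaf.map (homOfLE h).op) := by
      intro W W' h e
      subst e
      rw [Subsingleton.elim (homOfLE h).op (𝟙 _), CategoryTheory.Functor.map_id]
      exact Function.bijective_id
    exact hb (IZ.subschemeι.preimage_mono (le_top : U.1 ≤ ⊤)) hpre
  haveI : (Coh.structureModule X).IsQuasicoherent := Cohom.isQuasicoherent_structureModule _
  let e₀ : Coh.HH X (ClSub.quotMod IZ) 0 → Γ(ClSub.quotMod IZ, U.1) :=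
    fun x => mres (ClSub.quotMod IZ) le_top (ProjCoh.H0top (ClSub.quotMod IZ) x)
  have he₀ : Function.Bijective e₀ := hres.comp (ProjCoh.H0top (ClSub.quotMod IZ)).bijective
  let g : Γ(X, U.1) → Γ(ClSub.quotMod IZ, U.1) := fun r => (ClSub.toSubscheme IZ).app U.1 r
  haveI := Euler.isNoetherian_of_proper (X := X) k
  haveI : (ShortComplex.mk (ClSub.idealModι IZ) (ClSub.toSubscheme IZ) (kernel.condition _)).X₁.IsQuasicoherent :=
    (RegPow.isCoh_idealMod IZ).1
  have hg : Function.Surjective g :=
    QCoh.app_surjective_of_isAffineOpen (ArSurf29.shortExact_ideal IZ) U.2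
  let E := Equiv.ofBijective e₀ he₀
  let L : Γ(X, U.1) →ₗ[k] Coh.HH X (ClSub.quotMod IZ) 0 :=
    { toFun := fun r => E.symm (g r)
      map_add' := fun r s => E.injective (by
        rw [Equiv.apply_symm_apply]
        show _ = mres _ _ (ProjCoh.H0top _ (_ + _))
        rw [map_add]
        refine Eq.trans ?_ (map_add _ _ _).symm
        show _ = E (E.symm (g r)) + E (E.symm (g s))
        rw [Equiv.apply_symm_apply, Equiv.apply_symm_apply]
        exact map_add ((ClSub.toSubscheme IZ).app U.1).hom (show Γ(Coh.structureModule X, U.1) from r) (show Γ(Coh.structureModule X, U.1) from s))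
      map_smul' := fun a r => E.injective (by
        rw [Equiv.apply_symm_apply, RingHom.id_apply]
        show _ = mres _ _ (ProjCoh.H0top _ (a • _))
        rw [ProjCoh.H0top_smul, Ample.mres_smul']
        show _ = _ • E (E.symm (g r))
        rw [Equiv.apply_symm_apply]
        exact Ample.app_smul (ClSub.toSubscheme IZ) _ (show Γ(Coh.structureModule X, U.1) from r)) }
  have hker : LinearMap.ker L = (IZ.ideal U).restrictScalars k := by
    ext r
    rw [LinearMap.mem_ker, Submodule.restrictScalars_mem, ← IZ.ker_subschemeι_app U, RingHom.mem_ker]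
    constructor
    · intro h
      have h2 := congrArg E h
      rw [show L r = E.symm (g r) from rfl, Equiv.apply_symm_apply] at h2
      refine h2.trans ?_
      show mres _ _ (ProjCoh.H0top _ (0 : Coh.HH X (ClSub.quotMod IZ) 0)) = _
      rw [map_zero]
      exact map_zero _
    · intro h
      refine E.injective ?_
      rw [show L r = E.symm (g r) from rfl, Equiv.apply_symm_apply]
      refine h.trans (Eq.symm ?_)
      show mres _ _ (ProjCoh.H0top _ (0 : Coh.HH X (ClSub.quotMod IZ) 0)) = _
      rw [map_zero]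
      exact map_zero _
  have hsurj : Function.Surjective L := fun x => by
    obtain ⟨r, hr⟩ := hg (E x)
    exact ⟨r, by rw [show L r = E.symm (g r) from rfl]; exact (congrArg E.symm hr).trans (E.symm_apply_apply x)⟩
  exact ⟨(Submodule.Quotient.restrictScalarsEquiv k (IZ.ideal U)).symm ≪≫ₗ
    Submodule.quotEquivOfEq _ _ hker.symm ≪≫ₗ L.quotKerEquivOfSurjective hsurj⟩

variable [IsIntegral X]

include hsupp in
/-- The kernel of evaluation comes from the twisted ideal. -/
theorem finrank_ker_evalMap_le (m : ℕ) {L : X.Modules} (e : c.twist m ≅ L) :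
    Module.finrank k (LinearMap.ker (evalMap c l k IZ U hU m)) ≤
      Module.finrank k (Coh.HH X (CohB1.tensorMod L (ClSub.idealMod IZ)) 0) := by
  haveI := Euler.isNoetherian_of_proper (X := X) k
  have hA := c.isInvertible_twist m
  let A := c.twist m
  haveI := CBExt28.isEquivalence_Tw hA
  have hS := CBExt28.tw_shortExact hA (ArSurf29.shortExact_ideal IZ)
  let j : (CBExt28.Tw A).obj (ClSub.idealMod IZ) ⟶ A :=
    (CBExt28.Tw A).map (ClSub.idealModι IZ) ≫ (SecTwist.unitorR A).hom
  have hsub : LinearMap.ker (evalMap c l k IZ U hU m) ≤ LinearMap.range (hhMap k j 0) := by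
    intro x hx
    let a : c.sect m ⊤ := ProjCoh.H0top A x
    have hr : coef c l hU a ∈ IZ.ideal U := Ideal.Quotient.eq_zero_iff_mem.1 (LinearMap.mem_ker.1 hx)
    let σ := c.hom a
    let σ' : Coh.structureModule X ⟶ (CBExt28.Tw A).obj (Coh.structureModule X) := σ ≫ (SecTwist.unitorR A).inv
    let T := (CBExt28.Tw A).map (ClSub.toSubscheme IZ)
    have hkill : ∀ (x : X) (s : X.presheaf.stalk x), s ∈ Goodman.st IZ x →
        ∀ w, s • stalkLin T x w = 0 := by
      intro x s hs w
      obtain ⟨t, ht⟩ := Ref1.exists_gen_of_isInvertible hA x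
      obtain ⟨d, rfl⟩ := (Ref1.Gen.tmulStalk A (Coh.structureModule X) ht (Ref1.gen_unitStalk x)).2 w
      dsimp only
      rw [map_smul, smul_smul, mul_comm, ← smul_smul]
      refine (congrArg (d • ·) ?_).trans (smul_zero _)
      have e1 : stalkLin T x (Ref1.tmulStalk A (Coh.structureModule X) x t (HomSh.unitStalk x 1)) =
          Ref1.tmulStalk A (ClSub.quotMod IZ) x t (stalkLin (ClSub.toSubscheme IZ) x (HomSh.unitStalk x 1)) :=
        Goodman.stalkLin_tensor_tmul A (ClSub.toSubscheme IZ) x t _
      refine (congrArg (s • ·) e1).trans ?_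
      refine ((Ref1.tmulStalk A (ClSub.quotMod IZ) x t).map_smul s _).symm.trans ?_
      refine (congrArg _ ((stalkLin (ClSub.toSubscheme IZ) x).map_smul s _).symm).trans ?_
      rw [show s • HomSh.unitStalk x (1 : X.presheaf.stalk x) = HomSh.unitStalk x s by
        rw [← map_smul, smul_eq_mul, mul_one]]
      obtain ⟨v, rfl⟩ := hs
      rw [← Goodman.stalkLin_idealModι]
      refine (congrArg _ ?_).trans (map_zero _)
      exact ((ShortComplex.ShortExact.moduleCat_exact_iff_function_exact _).1
        ((OX.exact_iff _).1 (ArSurf29.shortExact_ideal IZ).exact x)).apply_apply_eq_zero v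
    have h0 : σ' ≫ T = 0 := by
      refine Scheme.Modules.hom_ext _ _ fun W => AddCommGrpCat.ext fun s => ?_
      refine QCoh.section_eq_zero_of_germ _ _ fun x hx => ?_
      by_cases hxU : x ∈ U.1
      swap
      · haveI : Subsingleton (((CBExt28.Tw A).obj (ClSub.quotMod IZ)).presheaf.stalk x) :=
          QCoh.stalk_subsingleton_of_notMem fun hmem => hxU (hsupp (Snapper.support_quotMod IZ
            (CurveMult.support_tensor_subset (ClSub.quotMod IZ) A
              ((QCoh.support_eq_of_iso (GrTilde.tensorModComm (X := X) A (ClSub.quotMod IZ))).le hmem))))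
        exact Subsingleton.elim _ _
      refine (QCoh.stalkLin_germ (σ' ≫ T) hx s).symm.trans ?_
      obtain ⟨d, hd⟩ := (Ref1.gen_unitStalk x).2 ((Coh.structureModule X).presheaf.germ W x hx s)
      dsimp only at hd
      rw [← hd, map_smul]
      refine (congrArg (d • ·) ?_).trans (smul_zero d)
      refine (HodgeIndex.stalkLin_comp_apply σ' T x _).trans ?_
      -- the germ of the section is a multiple of an element of the ideal
      have hσ : stalkLin σ x (HomSh.unitStalk x 1) =
          X.presheaf.germ U.1 x hxU (coef c l hU a) • A.presheaf.germ U.1 x hxU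
            (c.sectRes (le_top : U.1 ≤ ⊤) (powSect c l m)) := by
        have h1 : (HomSh.unitStalk x (1 : X.presheaf.stalk x)) =
            (Coh.structureModule X).presheaf.germ U.1 x hxU (FinCov.one X U.1) := by
          refine (one_smul (X.presheaf.stalk x) _).trans ?_
          rw [← TopCat.Presheaf.germ_res_apply (Coh.structureModule X).presheaf (homOfLE le_top) x hxU]
          exact congrArg _ (map_one (X.presheaf.map (homOfLE (le_top : U.1 ≤ ⊤)).op).hom)
        rw [h1, QCoh.stalkLin_germ]
        refine (congrArg (A.presheaf.germ U.1 x hxU) (c.hom_app_one a U.1)).trans ?_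
        rw [← coef_spec c l hU a]
        exact Mero.germ_smul A U.1 x hxU _ _
      rw [show stalkLin σ' x (HomSh.unitStalk x 1) =
        stalkLin (SecTwist.unitorR A).inv x (stalkLin σ x (HomSh.unitStalk x 1)) from
          HodgeIndex.stalkLin_comp_apply _ _ x _, hσ, map_smul, map_smul]
      refine hkill x _ ?_ _
      rw [Goodman.st_eq IZ U hxU]
      exact Ideal.mem_map_of_mem _ hr
    haveI := hS.mono_f
    let ρ := hS.exact.lift σ' h0
    refine ⟨(ProjCoh.H0top ((CBExt28.Tw A).obj (ClSub.idealMod IZ))).symm (ρ.app ⊤ (FinCov.one X ⊤)),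
      (ProjCoh.H0top A).injective ?_⟩
    rw [NegTwist.H0top_hhMap k, AddEquiv.apply_symm_apply]
    show (ρ ≫ j).app ⊤ (FinCov.one X ⊤) = _
    have hρ : ρ ≫ j = σ := by
      show hS.exact.lift σ' h0 ≫ (CBExt28.Tw A).map (ClSub.idealModι IZ) ≫ _ = σ
      rw [← Category.assoc, show hS.exact.lift σ' h0 ≫ (CBExt28.Tw A).map (ClSub.idealModι IZ) = σ' from
        hS.exact.lift_f σ' h0]
      simp [σ']
    rw [hρ]
    exact (c.hom_app_one a ⊤).trans (c.sect_ext fun i => Ample.res_self _ _)
  have hIc : Coh.IsCoh ((CBExt28.Tw A).obj (ClSub.idealMod IZ)) :=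
    QCoh.isCoh_of_iso (GrTilde.tensorModComm (X := X) _ A) (CMReg.isCoh_tensorMod (RegPow.isCoh_idealMod IZ) hA)
  haveI := Euler.finiteDimensional_HH k hIc 0
  calc Module.finrank k (LinearMap.ker (evalMap c l k IZ U hU m))
      ≤ Module.finrank k (LinearMap.range (hhMap k j 0)) := Submodule.finrank_mono hsub
    _ ≤ Module.finrank k (Coh.HH X ((CBExt28.Tw A).obj (ClSub.idealMod IZ)) 0) := LinearMap.finrank_range_le _
    _ = _ := (SerrePn27.hhMapEquiv (k := k) (Ample.LineData.tensorModMapIso e (Iso.refl _)) 0).finrank_eq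

end GrothLib.CBGor28
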